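import Groth.Prelude.Def_SekSuwa2
import Groth.Prelude.Def_AlgGrp
import Groth.Prelude.Def_Mor2
import Mathlib.RingTheory.AdjoinRoot
import Mathlib.AlgebraicGeometry.Morphisms.FlatRank

set_option autoImplicit false
set_option backward.isDefEq.respectTransparency.types false

universe u

open CategoryTheory Limits AlgebraicGeometry Polynomial MonoidalCategory CartesianMonoidalCategory

noncomputable section

namespace Groth.Agent.SekSuwaKer5

open SekSuwa

variable (R : Type u) [CommRing R] (lam : R) (N : ℕ) (h : DivCond lam N)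

theorem psiPoly_monic (hN : 0 < N) :
    (psiPoly lam N h).Monic ∧ (Nontrivial R → (psiPoly lam N h).natDegree = N) := by
  have key : ∀ n, lam ^ N * (psiPoly lam N h).coeff n =
      ((1 + C lam * X) ^ N - 1 : R[X]).coeff n := fun n => by
    rw [← psiPoly_spec h, coeff_C_mul]
  have hq : ∀ n, N ≤ n → ((1 + C lam * X) ^ N - 1 : R[X]).coeff n = if n = N then lam ^ N else 0 := by
    intro n hn
    have e : (1 + C lam * X : R[X]) ^ N = ((1 + X) ^ N : R[X]).comp (C lam * X) := by simp
    rw [coeff_sub, e, comp_C_mul_X_coeff, coeff_one_add_X_pow, coeff_one, if_neg (by omega), sub_zero]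
    split_ifs with h1
    · subst h1; simp
    · rw [Nat.choose_eq_zero_of_lt (by omega)]; simp
  have hle : (psiPoly lam N h).natDegree ≤ N := by
    refine natDegree_le_iff_coeff_eq_zero.mpr fun n hn => ?_
    have := key n
    rw [hq n (Nat.le_of_lt hn), if_neg (Nat.ne_of_gt hn)] at this
    exact cancel_nzd h.pow_nzd (this.trans (mul_zero _).symm)
  have hc : (psiPoly lam N h).coeff N = 1 := by
    have := key N
    rw [hq N le_rfl, if_pos rfl] at this
    exact cancel_nzd h.pow_nzd (this.trans (mul_one _).symm)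
  refine ⟨monic_of_natDegree_le_of_coeff_eq_one N hle hc, fun _ => ?_⟩
  exact le_antisymm hle (le_natDegree_of_ne_zero (by rw [hc]; exact one_ne_zero))

/-- The inverse of `1 + λ T` in `R[T]/(P)`. -/
theorem root_rel (hN : 0 < N) :
    (1 + lam • AdjoinRoot.root (psiPoly lam N h)) *
      (1 + lam • AdjoinRoot.root (psiPoly lam N h)) ^ (N - 1) = 1 := by
  rw [← pow_succ', Nat.sub_add_cancel hN]
  have e := aeval_psiPoly h (B := AdjoinRoot (psiPoly lam N h)) (AdjoinRoot.root _)
  rw [AdjoinRoot.aeval_eq, AdjoinRoot.mk_self, mul_zero, eq_comm, sub_eq_zero] at e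
  rw [Algebra.smul_def]
  exact e

def toRoot (hN : 0 < N) : AK R lam N h →ₐ[R] AdjoinRoot (psiPoly lam N h) :=
  Ideal.Quotient.liftₐ (kerIdeal lam N h)
    (A.lift R lam (AdjoinRoot.root _) _ (root_rel R lam N h hN))
    (by
      intro z hz
      obtain ⟨c, rfl⟩ := Ideal.mem_span_singleton'.mp hz
      rw [map_mul, kerGen, ← Polynomial.aeval_algHom_apply, A.lift_t, AdjoinRoot.aeval_eq,
        AdjoinRoot.mk_self, mul_zero])

def ofRoot : AdjoinRoot (psiPoly lam N h) →ₐ[R] AK R lam N h :=
  AdjoinRoot.liftAlgHom (psiPoly lam N h) (Algebra.ofId R (AK R lam N h)) AK.t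
    AK.aeval_t

def equivRoot (hN : 0 < N) : AdjoinRoot (psiPoly lam N h) ≃ₐ[R] AK R lam N h :=
  AlgEquiv.ofAlgHom (ofRoot R lam N h) (toRoot R lam N h hN)
    (by
      apply AK.algHom_ext
      · change ofRoot R lam N h (A.lift R lam _ _ (root_rel R lam N h hN) A.t) = AK.t
        rw [A.lift_t]
        exact AdjoinRoot.liftAlgHom_root _ _ _ _
      · change ofRoot R lam N h (A.lift R lam _ _ (root_rel R lam N h hN) A.inv) = AK.inv
        rw [A.lift_inv, map_pow, map_add, map_one, map_smul]
        have hr : ofRoot R lam N h (AdjoinRoot.root _) = AK.t := AdjoinRoot.liftAlgHom_root _ _ _ _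
        rw [hr]
        have h1 : (1 + lam • (AK.t : AK R lam N h)) * AK.inv = 1 := by
          have := congrArg (AK.mkHom R lam N h) (A.u_mul_inv (R := R) (lam := lam))
          rw [map_mul, map_one, AK.mkHom_u] at this
          exact this
        calc (1 + lam • (AK.t : AK R lam N h)) ^ (N - 1)
            = (1 + lam • (AK.t : AK R lam N h)) ^ (N - 1) * ((1 + lam • AK.t) * AK.inv) := by
              rw [h1, mul_one]
          _ = (1 + lam • AK.t) ^ N * AK.inv := by
              rw [← mul_assoc, ← pow_succ, Nat.sub_add_cancel hN]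
          _ = AK.inv := by rw [AK.u_pow, one_mul])
    (by
      apply AdjoinRoot.algHom_ext
      have hr : ofRoot R lam N h (AdjoinRoot.root _) = AK.t := AdjoinRoot.liftAlgHom_root _ _ _ _
      rw [AlgHom.comp_apply, hr]
      exact A.lift_t _ _ (root_rel R lam N h hN))

theorem isFinLocFreeOfDeg_GK (hN : 0 < N) : Mor2.IsFinLocFreeOfDeg N (GK R lam N h).hom := by
  obtain ⟨hm, hd⟩ := psiPoly_monic R lam N h hN
  have : Module.Free R (AdjoinRoot (psiPoly lam N h)) := hm.free_adjoinRoot
  have : Module.Finite R (AdjoinRoot (psiPoly lam N h)) := hm.finite_adjoinRoot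
  have : Module.Free R (AK R lam N h) := Module.Free.of_equiv (equivRoot R lam N h hN).toLinearEquiv
  have : Module.Finite R (AK R lam N h) := Module.Finite.equiv (equivRoot R lam N h hN).toLinearEquiv
  have : Module.FinitePresentation R (AK R lam N h) := Module.finitePresentation_of_projective R _
  have : Algebra.FinitePresentation R (AK R lam N h) :=
    Algebra.FinitePresentation.of_finitePresentation R _
  change Mor2.IsFinLocFreeOfDeg N (Spec.map (CommRingCat.ofHom (algebraMap R (AK R lam N h))))
  refine ⟨⟨?_, ?_, ?_⟩, fun x => ?_⟩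
  · rw [IsFinite.SpecMap_iff]; exact RingHom.finite_algebraMap.mpr inferInstance
  · rw [Flat.SpecMap_iff]; exact RingHom.flat_algebraMap_iff.mpr inferInstance
  · rw [HasRingHomProperty.Spec_iff (P := @LocallyOfFinitePresentation)]
    exact RingHom.finitePresentation_algebraMap.mpr inferInstance
  · have : Nontrivial R := x.nontrivial
    rw [Scheme.Hom.finrank_SpecMap_algebraMap, Module.rankAtStalk_eq_finrank_of_free]
    change Module.finrank R (AK R lam N h) = N
    rw [← (equivRoot R lam N h hN).toLinearEquiv.finrank_eq,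
      (AdjoinRoot.powerBasis' hm).finrank, AdjoinRoot.powerBasis'_dim, hd ‹_›]

theorem isPushout_AK :
    IsPushout (CommRingCat.ofHom (psiHom R lam N h : A R (lam ^ N) →+* A R lam))
      (CommRingCat.ofHom (Bialgebra.counitAlgHom R (A R (lam ^ N)) : A R (lam ^ N) →+* R))
      (CommRingCat.ofHom (AK.mkHom R lam N h : A R lam →+* AK R lam N h))
      (CommRingCat.ofHom (algebraMap R (AK R lam N h))) := by
  have hsq : CommRingCat.ofHom (psiHom R lam N h : A R (lam ^ N) →+* A R lam) ≫
      CommRingCat.ofHom (AK.mkHom R lam N h : A R lam →+* AK R lam N h) =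
      CommRingCat.ofHom (Bialgebra.counitAlgHom R (A R (lam ^ N)) : A R (lam ^ N) →+* R) ≫
      CommRingCat.ofHom (algebraMap R (AK R lam N h)) := by
    rw [← CommRingCat.ofHom_comp, ← CommRingCat.ofHom_comp]
    exact congrArg CommRingCat.ofHom (congrArg (fun f : A R (lam ^ N) →ₐc[R] AK R lam N h =>
      (f : A R (lam ^ N) →+* AK R lam N h)) (mkHom_comp_psiHom R lam N h))
  have hker : ∀ s : PushoutCocone (CommRingCat.ofHom (psiHom R lam N h : A R (lam ^ N) →+* A R lam))
      (CommRingCat.ofHom (Bialgebra.counitAlgHom R (A R (lam ^ N)) : A R (lam ^ N) →+* R)),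
      ∀ z ∈ kerIdeal lam N h, s.inl.hom z = 0 := by
    intro s z hz
    obtain ⟨c, rfl⟩ := Ideal.mem_span_singleton'.mp hz
    have := congr($(s.condition).hom A.t)
    change s.inl.hom (psiHom R lam N h A.t) =
      s.inr.hom (CoalgebraStruct.counit (R := R) (A.t : A R (lam ^ N))) at this
    rw [psiHom_t, A.counit_t, map_zero] at this
    rw [map_mul, this, mul_zero]
  refine ⟨⟨hsq⟩, ⟨PushoutCocone.isColimitAux _
    (fun s => CommRingCat.ofHom (Ideal.Quotient.lift (kerIdeal lam N h) s.inl.hom (hker s)))
    (fun s => ?_) (fun s => ?_) (fun s m hm => ?_)⟩⟩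
  · exact CommRingCat.hom_ext (RingHom.ext fun a => rfl)
  · refine CommRingCat.hom_ext (RingHom.ext fun r => ?_)
    have h2 := congr($(s.condition).hom (algebraMap R (A R (lam ^ N)) r))
    change s.inl.hom (psiHom R lam N h (algebraMap R (A R (lam ^ N)) r)) =
      s.inr.hom (Bialgebra.counitAlgHom R (A R (lam ^ N)) (algebraMap R (A R (lam ^ N)) r)) at h2
    rw [show psiHom R lam N h (algebraMap R (A R (lam ^ N)) r) = algebraMap R (A R lam) r from
        AlgHomClass.commutes (psiHom R lam N h) r,
      show Bialgebra.counitAlgHom R (A R (lam ^ N)) (algebraMap R (A R (lam ^ N)) r) = r from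
        (Bialgebra.counitAlgHom R (A R (lam ^ N))).commutes r] at h2
    exact h2
  · refine CommRingCat.hom_ext (Ideal.Quotient.ringHom_ext (RingHom.ext fun a => ?_))
    exact congr($(hm WalkingSpan.left).hom a)

theorem isPullback_left :
    IsPullback (incl R lam N h).left (toUnit (GK R lam N h)).left (psi R lam N h).left
      (MonObj.one : 𝟙_ (Over (Spec (CommRingCat.of R))) ⟶ G R (lam ^ N)).left := by
  have := isPullback_SpecMap_of_isPushout _ _ _ _ (isPushout_AK R lam N h)
  have hu : (toUnit (GK R lam N h)).left = Spec.map (CommRingCat.ofHom (algebraMap R (AK R lam N h))) := by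
    rw [← Category.comp_id (toUnit (GK R lam N h)).left]
    exact Over.w (toUnit (GK R lam N h))
  rw [incl, psi, specHom_left, specHom_left, one_spec_asOver_spec_left, hu]
  exact this

end Groth.Agent.SekSuwaKer5
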